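import Groth.Agent.SmoothDense.Basic
import Groth.Agent.ArtinFlat.HB
import Groth.Agent.AdicFS.Basic
import Groth.Agent.PP16Lib.AdicTopLift
import Groth.Agent.PP16Lib.GeomRegLocal
import Groth.Agent.RegularSerre.Localization
import Groth.Agent.GeomRedAt.InsepScheme
import Groth.Agent.S2453
import Groth.Agent.S2672

/-!
Geometric regularity at a point is smoothness.
-/

universe u

open CategoryTheory CategoryTheory.Limits AlgebraicGeometry TopologicalSpace
open scoped TensorProduct

namespace Groth.Agent.SmoothDense

variable {k : Type u} [Field k] {X : Scheme.{u}} (f : X ⟶ Spec (CommRingCat.of k))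

/-- Smooth points have regular local rings. -/
theorem isRegular_of_mem_smoothLocus [LocallyOfFinitePresentation f] {x : X} (hx : x ∈ f.smoothLocus) :
    IsRegularLocalRing (X.presheaf.stalk x) := by
  obtain ⟨_, ⟨V, hV, rfl⟩, hxV, hsub⟩ := X.isBasis_affineOpens.exists_subset_of_mem_open hx f.smoothLocus.2
  obtain ⟨q, rfl⟩ : x ∈ Set.range hV.fromSpec := by rw [hV.range_fromSpec]; exact hxV
  let ψ : CommRingCat.of k ⟶ Γ(X, V) := Spec.preimage (hV.fromSpec ≫ f)
  have hψ : Spec.map ψ = hV.fromSpec ≫ f := Spec.map_preimage _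
  have : Smooth (Spec.map ψ) := by
    rw [hψ, ← Scheme.Hom.smoothLocus_eq_top_iff, ← Scheme.Hom.preimage_smoothLocus_eq, eq_top_iff]
    intro z _
    exact hsub (hV.range_fromSpec ▸ ⟨z, rfl⟩ : hV.fromSpec z ∈ (V : Set X))
  let _ := ψ.hom.toAlgebra
  have : Algebra.Smooth k Γ(X, V) := (HasRingHomProperty.Spec_iff (P := @Smooth)).mp ‹Smooth (Spec.map ψ)›
  have := ArtinFlat.HB.isRegularRing_of_smooth k Γ(X, V)
  have := (isRegularRing_iff (R := Γ(X, V))).1 this q.asIdeal
  exact IsRegularLocalRing.of_ringEquiv (R := Localization.AtPrime q.asIdeal)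
    (((StructureSheaf.stalkIso Γ(X, V) q).toRingEquiv).trans
      (asIso (hV.fromSpec.stalkMap q)).commRingCatIsoToRingEquiv.symm)

variable {f} {x : X} [Algebra k (X.presheaf.stalk x)]
  (halg : X.fromSpecStalk x ≫ f = Spec.map (CommRingCat.ofHom (algebraMap k (X.presheaf.stalk x))))

include halg in
theorem essFiniteType_stalk [LocallyOfFiniteType f] : Algebra.EssFiniteType k (X.presheaf.stalk x) := by
  have hψ : CommRingCat.ofHom (algebraMap k (X.presheaf.stalk x)) =
      StructureSheaf.toStalk (CommRingCat.of k) (f x) ≫ f.stalkMap x := by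
    refine Spec.map_injective (halg.symm.trans ?_)
    rw [← Scheme.SpecMap_stalkMap_fromSpecStalk, Spec.fromSpecStalk_eq', Spec.map_comp]
    rfl
  have h1 : (StructureSheaf.toStalk (CommRingCat.of k) (f x)).hom.EssFiniteType := by
    rw [RingHom.EssFiniteType]
    let _ := (StructureSheaf.toStalk (CommRingCat.of k) (f x)).hom.toAlgebra
    have := StructureSheaf.IsLocalization.to_stalk (R := k) (f x)
    exact Algebra.EssFiniteType.of_isLocalization _ (f x).asIdeal.primeCompl
  have h2 : (CommRingCat.ofHom (algebraMap k (X.presheaf.stalk x))).hom.EssFiniteType := by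
    rw [hψ]; exact h1.comp (LocallyOfFiniteType.stalkMap f x)
  exact RingHom.essFiniteType_algebraMap.1 h2

include halg in
theorem mem_smoothLocus_of_adicSmooth [LocallyOfFinitePresentation f]
    (h : CAlgX.IsAdicFormallySmooth k (X.presheaf.stalk x) (IsLocalRing.maximalIdeal (X.presheaf.stalk x))) :
    x ∈ f.smoothLocus := by
  have := essFiniteType_stalk halg
  have : IsLocalHom (algebraMap k (X.presheaf.stalk x)) :=
    ⟨fun a ha => isUnit_iff_ne_zero.2 fun h0 => not_isUnit_zero (by rw [h0, map_zero] at ha; exact ha)⟩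
  have hfs : Algebra.FormallySmooth k (X.presheaf.stalk x) :=
    (AdicFS.formallySmooth_iff_adic k (X.presheaf.stalk x)).1 (PP16Lib.formallySmoothAdic_of_adicSmooth h)
  have hiso : IsIso (StructureSheaf.toStalk (CommRingCat.of k) (f x)) := by
    rw [ConcreteCategory.isIso_iff_bijective]
    let _ := (StructureSheaf.toStalk (CommRingCat.of k) (f x)).hom.toAlgebra
    have := StructureSheaf.IsLocalization.to_stalk (R := k) (f x)
    exact (IsLocalization.atUnits k (f x).asIdeal.primeCompl fun a ha =>
      isUnit_iff_ne_zero.2 fun h0 => ha (h0 ▸ (f x).asIdeal.zero_mem)).bijective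
  rw [Scheme.Hom.mem_smoothLocus]
  refine (RingHom.FormallySmooth.respectsIso.cancel_left_isIso (StructureSheaf.toStalk (CommRingCat.of k) (f x))
    (f.stalkMap x)).1 ?_
  have hψ : CommRingCat.ofHom (algebraMap k (X.presheaf.stalk x)) =
      StructureSheaf.toStalk (CommRingCat.of k) (f x) ≫ f.stalkMap x := by
    refine Spec.map_injective (halg.symm.trans ?_)
    rw [← Scheme.SpecMap_stalkMap_fromSpecStalk, Spec.fromSpecStalk_eq', Spec.map_comp]
    rfl
  have h3 : (CommRingCat.ofHom (algebraMap k (X.presheaf.stalk x))).hom.FormallySmooth :=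
    RingHom.formallySmooth_algebraMap.2 hfs
  rwa [hψ] at h3

include halg in
theorem mem_smoothLocus_of_regular_separable [LocallyOfFinitePresentation f]
    (hreg : IsRegularLocalRing (X.presheaf.stalk x))
    [Algebra.IsGeometricallyReduced k (IsLocalRing.ResidueField (X.presheaf.stalk x))] : x ∈ f.smoothLocus := by
  refine mem_smoothLocus_of_adicSmooth halg ?_
  exact ((S2453.result (k := k) (A := X.presheaf.stalk x)).out 0 3).2 hreg

include halg in
/-- Regular local rings above `x` make the base change of the local ring regular. -/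
theorem isRegularRing_tensor_of_stalks [IsNoetherianRing (X.presheaf.stalk x)] (k' : Type u) [Field k'] [Algebra k k']
    [Module.Finite k k']
    (h : ∀ x' : ↥(pullback f (Spec.map (CommRingCat.ofHom (algebraMap k k')))), pullback.fst f _ x' = x →
        IsRegularLocalRing ((pullback f (Spec.map (CommRingCat.ofHom (algebraMap k k')))).presheaf.stalk x')) :
    IsRegularRing (k' ⊗[k] X.presheaf.stalk x) := by
  have : Algebra.IsIntegral k k' := Algebra.IsIntegral.of_finite k k'
  have : IsNoetherianRing (X.presheaf.stalk x ⊗[k] k') :=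
    IsNoetherianRing.of_finite (X.presheaf.stalk x) _
  suffices hR : IsRegularRing (X.presheaf.stalk x ⊗[k] k') from
    IsRegularRing.of_ringEquiv (Algebra.TensorProduct.comm k (X.presheaf.stalk x) k').toRingEquiv
  rw [isRegularRing_iff]
  intro p hp
  obtain ⟨q, hq, hpq⟩ := p.exists_le_maximal hp.ne_top
  have hm : (q.comap (algebraMap (X.presheaf.stalk x) (X.presheaf.stalk x ⊗[k] k'))).IsMaximal :=
    Ideal.isMaximal_comap_of_isIntegral_of_isMaximal q
  let s : ↥(Spec (CommRingCat.of (X.presheaf.stalk x ⊗[k] k'))) := ⟨q, hq.isPrime⟩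
  let w := (GeomRedAt.locIso halg k').inv s
  have hw : pullback.fst (X.fromSpecStalk x ≫ f) (Spec.map (CommRingCat.ofHom (algebraMap k k'))) w =
      IsLocalRing.closedPoint (X.presheaf.stalk x) := by
    rw [← GeomRedAt.locIso_hom_comp halg k']
    show (Spec.map _) ((GeomRedAt.locIso halg k').hom ((GeomRedAt.locIso halg k').inv s)) = _
    rw [← Scheme.Hom.comp_apply (GeomRedAt.locIso halg k').inv, Iso.inv_hom_id]
    exact PrimeSpectrum.ext (IsLocalRing.eq_maximalIdeal hm)
  have h1 := h (GeomRedAt.toBc f x _ w) (by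
    rw [← Scheme.Hom.comp_apply, (GeomRedAt.isPullback_toBc f x _).w.symm, Scheme.Hom.comp_apply, hw,
      Scheme.fromSpecStalk_closedPoint])
  have h2 : IsRegularLocalRing ((Spec (CommRingCat.of (X.presheaf.stalk x ⊗[k] k'))).presheaf.stalk s) := by
    let j := (GeomRedAt.locIso halg k').inv ≫ GeomRedAt.toBc f x (Spec.map (CommRingCat.ofHom (algebraMap k k')))
    have : IsRegularLocalRing ((pullback f (Spec.map (CommRingCat.ofHom (algebraMap k k')))).presheaf.stalk (j s)) := h1
    exact IsRegularLocalRing.of_ringEquiv (RingEquiv.ofBijective _ (Groth.FlatDescent.bijective_stalkMap j s))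
  have h3 : IsRegularLocalRing (Localization.AtPrime q) :=
    IsRegularLocalRing.of_ringEquiv (R := (Spec (CommRingCat.of (X.presheaf.stalk x ⊗[k] k'))).presheaf.stalk s)
      (StructureSheaf.stalkIso (X.presheaf.stalk x ⊗[k] k') s).toRingEquiv.symm
  have h4 : IsRegularRing (Localization.AtPrime q) := RegularSerre.isRegularRing_of_isRegularLocalRing _
  let P := p.map (algebraMap _ (Localization.AtPrime q))
  have hdisj : Disjoint (q.primeCompl : Set (X.presheaf.stalk x ⊗[k] k')) p :=
    Set.disjoint_left.2 fun a ha hap => ha (hpq hap)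
  have hP : P.IsPrime := IsLocalization.isPrime_of_isPrime_disjoint q.primeCompl _ p hp hdisj
  have h5 := (isRegularRing_iff (R := Localization.AtPrime q)).1 h4 P
  have hcomap : P.comap (algebraMap _ (Localization.AtPrime q)) = p :=
    IsLocalization.under_map_of_isPrime_disjoint q.primeCompl _ hp hdisj
  have hloc : IsLocalization.AtPrime (Localization.AtPrime P) p := by
    have := IsLocalization.isLocalization_isLocalization_atPrime_isLocalization q.primeCompl (Localization.AtPrime P) P
    simpa only [Ideal.under, hcomap] using this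
  exact IsRegularLocalRing.of_ringEquiv (R := Localization.AtPrime P)
    (IsLocalization.algEquiv p.primeCompl (Localization.AtPrime P) (Localization.AtPrime p)).toRingEquiv

include halg in
theorem mem_smoothLocus_of_regular_baseChanges [LocallyOfFinitePresentation f]
    (h : ∀ (k' : Type u) [Field k'] [Algebra k k'], Module.Finite k k' →
      ∀ x' : ↥(pullback f (Spec.map (CommRingCat.ofHom (algebraMap k k')))), pullback.fst f _ x' = x →
        IsRegularLocalRing ((pullback f (Spec.map (CommRingCat.ofHom (algebraMap k k')))).presheaf.stalk x')) :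
    x ∈ f.smoothLocus := by
  have := essFiniteType_stalk halg
  have : IsNoetherianRing (X.presheaf.stalk x) := Algebra.EssFiniteType.isNoetherianRing k _
  refine mem_smoothLocus_of_adicSmooth halg ((PP16Lib.isGeometricallyRegular_iff_adicSmooth).1 fun k' _ _ hf => ?_)
  exact isRegularRing_tensor_of_stalks halg k' (h k' hf)

include halg in
/-- Geometrically regular local rings have regular base changes along finitely generated extensions. -/
theorem isRegular_of_isGeometricallyRegular [IsNoetherianRing (X.presheaf.stalk x)]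
    (h : CAlg.IsGeometricallyRegular k (X.presheaf.stalk x)) (K : Type u) [Field K] [Algebra k K]
    [Algebra.EssFiniteType k K] (x' : ↥(pullback f (Spec.map (CommRingCat.ofHom (algebraMap k K)))))
    (hx' : pullback.fst f _ x' = x) :
    IsRegularLocalRing ((pullback f (Spec.map (CommRingCat.ofHom (algebraMap k K)))).presheaf.stalk x') := by
  obtain ⟨w, rfl⟩ := GeomRedAt.exists_toBc_eq f x (Spec.map (CommRingCat.ofHom (algebraMap k K)))
    (z := x') (specializes_of_eq hx')
  have : IsRegularRing (K ⊗[k] X.presheaf.stalk x) := (S2672.result k (X.presheaf.stalk x)).2.1 h K inferInstance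
  have hR : IsRegularRing (X.presheaf.stalk x ⊗[k] K) :=
    IsRegularRing.of_ringEquiv (Algebra.TensorProduct.comm k K (X.presheaf.stalk x)).toRingEquiv
  let e := GeomRedAt.locIso halg K
  let s : PrimeSpectrum (X.presheaf.stalk x ⊗[k] K) := e.hom w
  have h1 := (isRegularRing_iff (R := X.presheaf.stalk x ⊗[k] K)).1 hR s.asIdeal
  have h2 : IsRegularLocalRing ((Spec (CommRingCat.of (X.presheaf.stalk x ⊗[k] K))).presheaf.stalk (e.hom w)) :=
    IsRegularLocalRing.of_ringEquiv (R := Localization.AtPrime s.asIdeal)
      (StructureSheaf.stalkIso (X.presheaf.stalk x ⊗[k] K) s).toRingEquiv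
  have h3 : IsRegularLocalRing ((GeomRedAt.loc f x (Spec.map (CommRingCat.ofHom (algebraMap k K)))).presheaf.stalk w) :=
    IsRegularLocalRing.of_ringEquiv (asIso (e.hom.stalkMap w)).commRingCatIsoToRingEquiv
  exact IsRegularLocalRing.of_ringEquiv
    (RingEquiv.ofBijective _ (Groth.FlatDescent.bijective_stalkMap (GeomRedAt.toBc f x _) w)).symm

end Groth.Agent.SmoothDense
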