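import Groth.Agent.SmoothDense.Basic
import Groth.Agent.ImmDescent.Basic

/-!
Generic smoothness of a dominant morphism of integral schemes.
-/

universe u

open CategoryTheory CategoryTheory.Limits AlgebraicGeometry TopologicalSpace

namespace Groth.Agent.SmoothDense

variable {X Y : Scheme.{u}} (f : X ⟶ Y)

theorem apply_genericPoint [IrreducibleSpace X] [IrreducibleSpace Y] [IsDominant f] :
    f (genericPoint X) = genericPoint Y := by
  have h1 := (genericPoint_spec X).image f.continuous
  rw [Set.image_univ, f.denseRange.closure_range] at h1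
  exact h1.eq (genericPoint_spec Y)

theorem residue_bijective_genericPoint [AlgebraicGeometry.IsIntegral Y] {η : Y} (hη : η = genericPoint Y) :
    Function.Bijective (Y.residue η) := by
  subst hη
  exact ⟨RingHom.injective (Y.residue (genericPoint Y)).hom, Ideal.Quotient.mk_surjective⟩

theorem flat_stalkMap_genericPoint [AlgebraicGeometry.IsIntegral Y] (x : X) (hx : f x = genericPoint Y) :
    (f.stalkMap x).hom.Flat := by
  have hfield : IsField (Y.presheaf.stalk (f x)) := by rw [hx]; exact Field.toIsField Y.functionField
  letI := hfield.toField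
  letI := (f.stalkMap x).hom.toAlgebra
  exact inferInstanceAs (Module.Flat (Y.presheaf.stalk (f x)) (X.presheaf.stalk x))

theorem flat_fromSpecResidueField [AlgebraicGeometry.IsIntegral Y] {η : Y} (hη : η = genericPoint Y) :
    Flat (Y.fromSpecResidueField η) := by
  have : IsIso (Y.residue η) := (ConcreteCategory.isIso_iff_bijective _).2 (residue_bijective_genericPoint hη)
  have : Flat (Y.fromSpecStalk η) := Groth.FlatDescent.flat_fromSpecStalk η
  show Flat (Spec.map (Y.residue η) ≫ Y.fromSpecStalk η)
  infer_instance

/-- Smoothness at points over the generic point is smoothness of the generic fibre. -/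
theorem mem_smoothLocus_of_fibre [AlgebraicGeometry.IsIntegral Y] [LocallyOfFinitePresentation f] (x : X)
    (hx : f x = genericPoint Y) (h : f.asFiber x ∈ (f.fiberToSpecResidueField (f x)).smoothLocus) :
    x ∈ f.smoothLocus :=
  (Groth.FibrewiseCrit.mem_smoothLocus_iff_flat_and_fibre f x).2 ⟨flat_stalkMap_genericPoint f x hx, h⟩

theorem dense_smoothLocus_generic [AlgebraicGeometry.IsIntegral X] [AlgebraicGeometry.IsIntegral Y] [IsDominant f]
    [LocallyOfFinitePresentation f]
    (hsep : GeometricallyReduced (f.fiberToSpecResidueField (f (genericPoint X)))) :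
    Dense (f.smoothLocus : Set X) := by
  suffices h : genericPoint X ∈ f.smoothLocus by
    refine (dense_iff_closure_eq).2 (Set.eq_univ_of_univ_subset ?_)
    rw [← genericPoint_closure]
    exact closure_mono (Set.singleton_subset_iff.2 h)
  refine mem_smoothLocus_of_fibre f _ (apply_genericPoint f) ?_
  let p : f.fiber (f (genericPoint X)) ⟶ Spec (CommRingCat.of (Y.residueField (f (genericPoint X)))) :=
    f.fiberToSpecResidueField (f (genericPoint X))
  have : LocallyOfFinitePresentation p :=
    Groth.FibrewiseCrit.locallyOfFinitePresentation_fiberToSpecResidueField f (f (genericPoint X))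
  have : GeometricallyReduced p := hsep
  obtain ⟨z, hz⟩ := (dense_smoothLocus_of_geometricallyReduced p).inter_open_nonempty Set.univ isOpen_univ
      ⟨f.asFiber (genericPoint X), trivial⟩
  refine Specializes.mem_open ?_ (f.fiberToSpecResidueField _).smoothLocus.2 hz.2
  rw [← (f.fiberι _).isEmbedding.isInducing.specializes_iff, Scheme.Hom.fiberι_asFiber]
  exact genericPoint_specializes _

/-- Over a perfect generic point, a regular source is smooth along the generic fibre. -/
theorem mem_smoothLocus_of_regular [AlgebraicGeometry.IsIntegral Y] [LocallyOfFinitePresentation f]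
    [PerfectField Y.functionField] (x : X) (hreg : IsRegularLocalRing (X.presheaf.stalk x))
    (hx : f x = genericPoint Y) : x ∈ f.smoothLocus := by
  refine mem_smoothLocus_of_fibre f x hx ?_
  have := flat_fromSpecResidueField (η := f x) hx
  have : Flat (f.fiberι (f x)) := MorphismProperty.pullback_fst (P := @Flat) f _ this
  have : PerfectField (Y.residueField (f x)) := by
    let e : Y.presheaf.stalk (f x) ≃+* Y.residueField (f x) :=
      RingEquiv.ofBijective (Y.residue (f x)).hom (residue_bijective_genericPoint hx)
    have hfield : IsField (Y.presheaf.stalk (f x)) := by rw [hx]; exact Field.toIsField Y.functionField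
    let e0 : Y.functionField ≃+* Y.presheaf.stalk (f x) :=
      (Y.presheaf.stalkCongr (.of_eq hx.symm)).commRingCatIsoToRingEquiv
    exact PerfectField.of_ringEquiv (K := Y.functionField) (e0.trans e)
  let p : f.fiber (f x) ⟶ Spec (CommRingCat.of (Y.residueField (f x))) := f.fiberToSpecResidueField (f x)
  have : LocallyOfFinitePresentation p :=
    Groth.FibrewiseCrit.locallyOfFinitePresentation_fiberToSpecResidueField f (f x)
  refine (mem_smoothLocus_iff_regular p (f.asFiber x)).2 ?_
  have hr : IsRegularLocalRing (X.presheaf.stalk (f.fiberι (f x) (f.asFiber x))) := by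
    rw [Scheme.Hom.fiberι_asFiber]; exact hreg
  exact IsRegularLocalRing.of_ringEquiv
    (RingEquiv.ofBijective _ (Groth.FlatDescent.bijective_stalkMap (f.fiberι (f x)) (f.asFiber x)))

theorem exists_dense_open_smooth [AlgebraicGeometry.IsIntegral Y] [LocallyOfFinitePresentation f] [QuasiCompact f]
    (h : ∀ x : X, f x = genericPoint Y → x ∈ f.smoothLocus) :
    ∃ V : Y.Opens, Dense (V : Set Y) ∧ Smooth (f ∣_ V) := by
  let B : TopologicalSpace.Closeds X := ⟨(f.smoothLocus : Set X)ᶜ, f.smoothLocus.2.isClosed_compl⟩
  let I := Scheme.IdealSheafData.vanishingIdeal B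
  have hrange : Set.range (I.subschemeι ≫ f) = f '' (f.smoothLocus : Set X)ᶜ := by
    rw [Scheme.Hom.comp_base, TopCat.coe_comp, Set.range_comp, Scheme.IdealSheafData.range_subschemeι,
      Scheme.IdealSheafData.coe_support_vanishingIdeal]
    rfl
  let V : Y.Opens := ⟨(closure (f '' (f.smoothLocus : Set X)ᶜ))ᶜ, isClosed_closure.isOpen_compl⟩
  have hη : genericPoint Y ∈ V := by
    intro hmem
    rw [← hrange] at hmem
    obtain ⟨z, hz⟩ := ImmDescent.exists_specializes_of_mem_closure_range (I.subschemeι ≫ f) hmem
    have h0 : f (I.subschemeι z) = genericPoint Y := (hz.antisymm (genericPoint_specializes _)).eq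
    have h1 : I.subschemeι z ∈ Set.range I.subschemeι := ⟨z, rfl⟩
    rw [Scheme.IdealSheafData.range_subschemeι, Scheme.IdealSheafData.coe_support_vanishingIdeal] at h1
    exact h1 (h _ h0)
  refine ⟨V, ?_, ?_⟩
  · refine (dense_iff_closure_eq).2 (Set.eq_univ_of_univ_subset ?_)
    rw [← genericPoint_closure]
    exact closure_mono (Set.singleton_subset_iff.2 hη)
  · rw [← Scheme.Hom.smoothLocus_eq_top_iff, eq_top_iff]
    rintro x -
    rw [← Groth.FibrewiseCrit.mem_smoothLocus_comp_right (f ∣_ V) V.ι]
    simp only [morphismRestrict_ι]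
    rw [Groth.FibrewiseCrit.mem_smoothLocus_comp_left]
    by_contra hne
    exact x.2 (subset_closure ⟨_, hne, rfl⟩)

end Groth.Agent.SmoothDense
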