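import Groth.Agent.SmoothDense.GeomReg
import Groth.Agent.SmoothDense.Generic
import Groth.Agent.J2Lib.Descent
import Groth.Agent.DepthLib.RegularLocal
import Groth.Agent.GeomRedAt.InsepScheme

/-!
Consequences: descent of geometric regularity, curves, generic smoothness.
-/

universe u

open CategoryTheory CategoryTheory.Limits AlgebraicGeometry TopologicalSpace
open scoped TensorProduct

namespace Groth.Agent.SmoothDense

/-- Regular local rings descend along a morphism flat at a point. -/
theorem exists_regular_descend {X Y Y' : Scheme.{u}} (f : X ⟶ Y) (h : Y' ⟶ Y) [IsLocallyNoetherian Y'] (x : X)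
    (hflat : (f.stalkMap x).hom.Flat) (y' : Y') (hy' : h y' = f x)
    (hreg : ∀ x' : ↥(pullback f h), pullback.fst f h x' = x → IsRegularLocalRing ((pullback f h).presheaf.stalk x')) :
    IsRegularLocalRing (Y'.presheaf.stalk y') := by
  let i := X.fromSpecStalk x
  have hi : Flat (i ≫ f) := (Groth.FlatDescent.flat_stalkMap_iff_fromSpecStalk f x).1 hflat
  let j : pullback (i ≫ f) h ⟶ pullback f h := GeomRedAt.toBc f x h
  obtain ⟨w, hw1, hw2⟩ := Scheme.Pullback.exists_preimage_pullback (f := i ≫ f) (g := h)
    (IsLocalRing.closedPoint (X.presheaf.stalk x)) y' (by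
      rw [Scheme.Hom.comp_apply, Scheme.fromSpecStalk_closedPoint, hy'])
  have hj1 : pullback.fst f h (j w) = x := by
    rw [← Scheme.Hom.comp_apply, pullback.lift_fst, Scheme.Hom.comp_apply, hw1, Scheme.fromSpecStalk_closedPoint]
  have : IsRegularLocalRing ((pullback f h).presheaf.stalk (j w)) := hreg _ hj1
  have : IsRegularLocalRing ((pullback (i ≫ f) h).presheaf.stalk w) :=
    IsRegularLocalRing.of_ringEquiv (RingEquiv.ofBijective _ (Groth.FlatDescent.bijective_stalkMap j w))
  let p := pullback.snd (i ≫ f) h
  have : Flat p := inferInstance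
  subst hw2
  let _ := (p.stalkMap w).hom.toAlgebra
  have : Module.Flat (Y'.presheaf.stalk (p w)) ((pullback (i ≫ f) h).presheaf.stalk w) := Flat.stalkMap p w
  have : IsLocalHom (algebraMap (Y'.presheaf.stalk (p w)) ((pullback (i ≫ f) h).presheaf.stalk w)) := p.toLRSHom.prop w
  exact J2Lib.isRegularLocalRing_of_flat _ ((pullback (i ≫ f) h).presheaf.stalk w)

theorem isDiscreteValuationRing_of_regular (R : Type u) [CommRing R] [IsRegularLocalRing R]
    (hdim : ringKrullDim R ≤ 1) (hne : ¬ IsField R) : @IsDiscreteValuationRing R _ (DepthLib.isDomain_of_isRegularLocalRing R) := by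
  have := DepthLib.isDomain_of_isRegularLocalRing R
  refine ((IsDiscreteValuationRing.TFAE R hne).out 0 4).2 ?_
  have h1 : ((IsLocalRing.maximalIdeal R).spanFinrank : WithBot ℕ∞) ≤ 1 := by
    rw [IsRegularLocalRing.spanFinrank_maximalIdeal]; exact hdim
  have h2 : (IsLocalRing.maximalIdeal R).spanFinrank ≤ 1 := by exact_mod_cast h1
  rcases Nat.le_one_iff_eq_zero_or_eq_one.1 h2 with h | h
  · exfalso
    refine hne (IsLocalRing.isField_iff_maximalIdeal_eq.2 ?_)
    exact (Submodule.spanFinrank_eq_zero_iff_eq_bot (IsNoetherian.noetherian _)).1 h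
  · obtain ⟨s, hs, hspan⟩ := Submodule.FG.exists_span_finset_card_eq_spanFinrank (IsNoetherian.noetherian (IsLocalRing.maximalIdeal R))
    rw [h] at hs
    obtain ⟨a, rfl⟩ := Finset.card_eq_one.1 hs
    exact ⟨a, by rw [← hspan, Finset.coe_singleton]⟩

theorem isRegularLocalRing_of_isDiscreteValuationRing (R : Type u) [CommRing R] [IsDomain R]
    [IsDiscreteValuationRing R] : IsRegularLocalRing R := inferInstance

/-- At a closed point of an integral one-dimensional scheme the local ring is not a field. -/
theorem not_isField_stalk {X : Scheme.{u}} [AlgebraicGeometry.IsIntegral X] (hdim : topologicalKrullDim X = 1) {x : X}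
    (hx : IsClosed ({x} : Set X)) : ¬ IsField (X.presheaf.stalk x) := by
  intro hf
  have hgen : genericPoint X = x := by
    obtain ⟨p, hp⟩ : genericPoint X ∈ Set.range (X.fromSpecStalk x) := by
      rw [Scheme.range_fromSpecStalk]; exact genericPoint_specializes x
    have : p = IsLocalRing.closedPoint (X.presheaf.stalk x) := by
      let _ := hf.toField
      exact Subsingleton.elim (α := PrimeSpectrum (X.presheaf.stalk x)) _ _
    rw [← hp, this, Scheme.fromSpecStalk_closedPoint]
  have hsing : ∀ y : X, y = x := fun y => by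
    have h1 : y ∈ closure ({x} : Set X) := by rw [← hgen, genericPoint_closure]; trivial
    rwa [hx.closure_eq] at h1
  have : Subsingleton X := ⟨fun a b => (hsing a).trans (hsing b).symm⟩
  have h0 : topologicalKrullDim X ≤ 0 := topologicalKrullDim_zero_of_discreteTopology X
  rw [hdim] at h0
  exact absurd h0 (by decide)

theorem ringKrullDim_stalk_le {X : Scheme.{u}} (x : X) : ringKrullDim (X.presheaf.stalk x) ≤ topologicalKrullDim X := by
  rw [← PrimeSpectrum.topologicalKrullDim_eq_ringKrullDim]
  exact (X.fromSpecStalk x).isEmbedding.isInducing.topologicalKrullDim_le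

/-- Generic smoothness on the source in characteristic zero. -/
theorem dense_smoothLocus_of_charZero {X Y : Scheme.{u}} [AlgebraicGeometry.IsIntegral X] [AlgebraicGeometry.IsIntegral Y]
    (f : X ⟶ Y) [IsDominant f] [LocallyOfFinitePresentation f] [CharZero Y.functionField] :
    Dense (f.smoothLocus : Set X) := by
  refine dense_smoothLocus_generic f ?_
  let η := f (genericPoint X)
  have hη : η = genericPoint Y := apply_genericPoint f
  have : Flat (Y.fromSpecResidueField η) := flat_fromSpecResidueField hη
  have : Flat (f.fiberι η) := MorphismProperty.pullback_fst (P := @Flat) f _ this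
  let p : f.fiber η ⟶ Spec (CommRingCat.of (Y.residueField η)) := f.fiberToSpecResidueField η
  have : CharZero (Y.residueField η) := by
    let g : Y.functionField →+* Y.residueField η :=
      (Y.residue η).hom.comp (Y.presheaf.stalkCongr (.of_eq hη.symm)).hom.hom
    exact charZero_of_injective_ringHom g.injective
  show GeometricallyReduced p
  refine (GeomRedAt.geometricallyReduced_iff_forall p).2 fun w => ?_
  have : _root_.IsReduced ((f.fiber η).presheaf.stalk w) :=
    isReduced_of_injective (RingEquiv.ofBijective _ (Groth.FlatDescent.bijective_stalkMap (f.fiberι η) w)).symm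
      (RingEquiv.injective _)
  exact GeomRedAt.grAt_of_perfectField (f := p) w

/-- Affine generic smoothness for a separable extension of fraction fields. -/
theorem exists_away_smooth (A B : Type u) [CommRing A] [CommRing B] [IsDomain A] [IsDomain B] [IsNoetherianRing A]
    [Algebra A B] [Algebra.FiniteType A B]
    (K L : Type u) [Field K] [Field L] [Algebra A K] [IsFractionRing A K] [Algebra B L] [IsFractionRing B L]
    [Algebra K L] [Algebra A L] [IsScalarTower A B L] [IsScalarTower A K L] [Algebra.FormallySmooth K L] :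
    ∃ g : B, g ≠ 0 ∧ ∀ (C : Type u) [CommRing C] [Algebra B C] [IsLocalization.Away g C] [Algebra A C] [IsScalarTower A B C],
      Algebra.Smooth A C := by
  have : Algebra.FinitePresentation A B := Algebra.FinitePresentation.of_finiteType.1 ‹_›
  have hsm : (⟨⊥, Ideal.isPrime_bot⟩ : PrimeSpectrum B) ∈ Algebra.smoothLocus A B := by
    have : Algebra.FormallySmooth A K := Algebra.FormallySmooth.of_isLocalization (R := A) (Rₘ := K) (nonZeroDivisors A)
    have hAL : Algebra.FormallySmooth A L := Algebra.FormallySmooth.comp A K L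
    have hloc : IsLocalization (⊥ : Ideal B).primeCompl L := by
      have : (⊥ : Ideal B).primeCompl = nonZeroDivisors B := by
        ext a
        rw [mem_nonZeroDivisors_iff_ne_zero]
        exact not_congr Ideal.mem_bot
      rw [this]; infer_instance
    let e : L ≃ₐ[B] Localization.AtPrime (⊥ : Ideal B) := IsLocalization.algEquiv (⊥ : Ideal B).primeCompl _ _
    exact Algebra.FormallySmooth.of_equiv (e.restrictScalars A)
  obtain ⟨_, ⟨_, ⟨g, rfl⟩, rfl⟩, hg, hsub⟩ :=
    PrimeSpectrum.isBasis_basic_opens.exists_subset_of_mem_open hsm Algebra.isOpen_smoothLocus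
  refine ⟨g, fun h0 => hg (by rw [h0]; exact Submodule.zero_mem _), fun C _ _ _ _ _ => ?_⟩
  have := Algebra.basicOpen_subset_smoothLocus_iff_smooth.1 hsub
  exact Algebra.Smooth.of_equiv ((IsLocalization.algEquiv (Submonoid.powers g) (Localization.Away g) C).restrictScalars A)

/-- Normality can be tested at closed points of a quasi-compact scheme. -/
theorem isNormal_of_closedPoints {X : Scheme.{u}} [CompactSpace X]
    (h : ∀ x : X, IsClosed ({x} : Set X) → IsDomain (X.presheaf.stalk x) ∧ IsIntegrallyClosed (X.presheaf.stalk x))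
    (y : X) : IsDomain (X.presheaf.stalk y) ∧ IsIntegrallyClosed (X.presheaf.stalk y) := by
  obtain ⟨x, hx, hxc⟩ := (isClosed_closure (s := ({y} : Set X))).exists_closed_singleton ⟨y, subset_closure rfl⟩
  obtain ⟨_, _⟩ := h x hxc
  obtain ⟨p, rfl⟩ : y ∈ Set.range (X.fromSpecStalk x) := by
    rw [Scheme.range_fromSpecStalk]; exact specializes_iff_mem_closure.2 hx
  have hflat := Groth.FlatDescent.flat_fromSpecStalk x
  let e : Localization.AtPrime p.asIdeal ≃+* X.presheaf.stalk (X.fromSpecStalk x p) :=
    ((StructureSheaf.stalkIso (X.presheaf.stalk x) p).toRingEquiv).trans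
      (RingEquiv.ofBijective _ (Groth.FlatDescent.bijective_stalkMap (X.fromSpecStalk x) p)).symm
  have hle : p.asIdeal.primeCompl ≤ nonZeroDivisors (X.presheaf.stalk x) :=
    p.asIdeal.primeCompl_le_nonZeroDivisors
  have : IsDomain (Localization.AtPrime p.asIdeal) := IsLocalization.isDomain_localization hle
  have hic : IsIntegrallyClosed (Localization.AtPrime p.asIdeal) := isIntegrallyClosed_of_isLocalization _ p.asIdeal.primeCompl hle
  exact ⟨e.toMulEquiv.symm.isDomain _, IsIntegrallyClosed.of_equiv e⟩

theorem smooth_opens_ι_comp_gen {X Y : Scheme.{u}} (f : X ⟶ Y) [LocallyOfFinitePresentation f] :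
    Smooth (f.smoothLocus.ι ≫ f) := by
  rw [← Scheme.Hom.smoothLocus_eq_top_iff, ← Scheme.Hom.preimage_smoothLocus_eq, eq_top_iff]
  intro x _
  exact x.2

/-- Base change along a finitely generated field extension keeps locally Noetherian. -/
theorem isLocallyNoetherian_bc {k : Type u} [Field k] {Y : Scheme.{u}} (g : Y ⟶ Spec (CommRingCat.of k))
    [IsLocallyNoetherian Y] (K : Type u) [Field K] [Algebra k K] [Algebra.EssFiniteType k K] :
    IsLocallyNoetherian (pullback g (Spec.map (CommRingCat.ofHom (algebraMap k K)))) := by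
  refine (isLocallyNoetherian_iff_openCover
    (Scheme.Pullback.openCoverOfLeft Y.affineCover g (Spec.map (CommRingCat.ofHom (algebraMap k K))))).2 fun i => ?_
  obtain ⟨φ, hφ⟩ := Spec.map_surjective (R := CommRingCat.of k) (Y.affineCover.f i ≫ g)
  let A := Y.affineOpenCover.X i
  let _ : Algebra k A := φ.hom.toAlgebra
  have hN : IsLocallyNoetherian (Y.affineCover.X i) := isLocallyNoetherian_of_isOpenImmersion (Y.affineCover.f i)
  have : IsNoetherianRing A := (isLocallyNoetherian_Spec (R := A)).1 hN
  have : Algebra.EssFiniteType A (A ⊗[k] K) := inferInstance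
  have : IsNoetherianRing (A ⊗[k] K) := Algebra.EssFiniteType.isNoetherianRing A _
  let e : pullback (Y.affineCover.f i ≫ g) (Spec.map (CommRingCat.ofHom (algebraMap k K))) ≅ Spec (CommRingCat.of (A ⊗[k] K)) :=
    pullback.congrHom hφ.symm rfl ≪≫ pullbackSpecIso k A K
  exact isLocallyNoetherian_of_isOpenImmersion e.hom

end Groth.Agent.SmoothDense
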