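import Groth.Agent.FibrewiseCrit.GrpRegular
import Groth.Agent.GeomRedAt.Change
import Groth.Agent.TrivSec.SmoothGR
import Groth.Agent.PurelyInsepRed.Basic
import Groth.Agent.S2155

/-!
Geometrically reduced schemes over a field are generically smooth; over a perfect field smooth means regular.
-/

universe u

open CategoryTheory CategoryTheory.Limits AlgebraicGeometry TopologicalSpace
open scoped TensorProduct

namespace Groth.Agent.SmoothDense

variable {k : Type u} [Field k] {X : Scheme.{u}} (f : X ⟶ Spec (CommRingCat.of k))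

/-- The smooth locus of a geometrically reduced scheme over a field is dense. -/
theorem dense_smoothLocus_of_geometricallyReduced [LocallyOfFinitePresentation f] [GeometricallyReduced f] :
    Dense (f.smoothLocus : Set X) := by
  let g := Spec.map (CommRingCat.ofHom (algebraMap k (AlgebraicClosure k)))
  have hflat : Flat g := GeomRedAt.flat_SpecMap_field _
  have hred : IsReduced (pullback f g) :=
    GeometricallyReduced.geometrically_isReduced (f := f) _ _ _ (IsPullback.of_hasPullback f g)
  have hd := (pullback.snd f g).dense_smoothLocus_of_perfectField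
  rw [S2155.result f g _ _ (IsPullback.of_hasPullback f g) (.inr hflat)] at hd
  have hsurj : Surjective g := ⟨fun y => ⟨IsLocalRing.closedPoint _, Subsingleton.elim (α := PrimeSpectrum k) _ _⟩⟩
  refine Dense.mono ?_ ((pullback.fst f g).surjective.denseRange.dense_image (pullback.fst f g).continuous hd)
  rintro _ ⟨z, hz, rfl⟩
  exact hz

theorem smooth_opens_ι_comp [LocallyOfFinitePresentation f] {U : X.Opens} (hU : U ≤ f.smoothLocus) :
    Smooth (U.ι ≫ f) := by
  rw [← Scheme.Hom.smoothLocus_eq_top_iff, ← Scheme.Hom.preimage_smoothLocus_eq, eq_top_iff]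
  intro x _
  exact hU x.2

theorem le_smoothLocus [LocallyOfFinitePresentation f] {U : X.Opens} [Smooth (U.ι ≫ f)] : U ≤ f.smoothLocus := by
  intro x hx
  have h : (⟨x, hx⟩ : U) ∈ (U.ι ≫ f).smoothLocus := by rw [Scheme.Hom.smoothLocus_eq_top]; trivial
  rwa [← Scheme.Hom.preimage_smoothLocus_eq] at h

/-- Dense opens contain the maximal points of a locally Noetherian scheme. -/
theorem mem_of_dense [IsLocallyNoetherian X] {U : Set X} (hU : IsOpen U) (hd : Dense U) {η : X}
    (hη : ∀ η' : X, η' ⤳ η → η ⤳ η') : η ∈ U := by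
  obtain ⟨_, ⟨V, hV, rfl⟩, hηV, -⟩ := X.isBasis_affineOpens.exists_subset_of_mem_open (Set.mem_univ η) isOpen_univ
  have : IsAffine V := hV
  have : IsNoetherian V := { }
  have hclosed : IsClosed (closure {(⟨η, hηV⟩ : V)}) := isClosed_closure
  have hZ : closure {(⟨η, hηV⟩ : V)} ∈ irreducibleComponents V := by
    refine ⟨isIrreducible_singleton.closure, fun Z hZ hle => ?_⟩
    have hz := hZ.isGenericPoint_genericPoint_closure
    have h1 : hZ.genericPoint ⤳ ⟨η, hηV⟩ := hz.specializes (subset_closure (hle (subset_closure rfl)))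
    have h2 := hη _ (h1.map continuous_subtype_val)
    intro a ha
    exact (((subtype_specializes_iff _ _).2 h2).trans (hz.specializes (subset_closure ha))).mem_closure
  obtain ⟨o, ho, hne, hoZ⟩ := NoetherianSpace.exists_isOpen_nonempty_subset_irreducibleComponent (α := V) _ hZ
  obtain ⟨_, ⟨z, hz, rfl⟩, hzU⟩ := hd.inter_open_nonempty (Subtype.val '' o) (V.2.isOpenMap_subtype_val o ho)
    (hne.image _)
  exact ((specializes_iff_mem_closure.2 (hoZ hz)).map continuous_subtype_val).mem_open hU hzU

/-- A reduced scheme with a dense open smooth subscheme is geometrically reduced. -/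
theorem geometricallyReduced_of_dense_smooth [AlgebraicGeometry.IsReduced X] [IsLocallyNoetherian X]
    {U : X.Opens} (hd : Dense (U : Set X)) [Smooth (U.ι ≫ f)] : GeometricallyReduced f := by
  refine GeomRedAt.geometricallyReduced_of_generic f fun η hη => ?_
  have hηU : η ∈ U := mem_of_dense U.2 hd hη
  intro K _ _ x' hx'
  let g := Spec.map (CommRingCat.ofHom (algebraMap k K))
  let m : pullback (U.ι ≫ f) g ⟶ pullback f g := pullback.map _ _ _ _ U.ι (𝟙 _) (𝟙 _) (by simp) (by simp)
  have hsq : IsPullback (pullback.fst (U.ι ≫ f) g) m U.ι (pullback.fst f g) := by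
    refine IsPullback.of_bot ?_ (pullback.lift_fst _ _ _).symm (IsPullback.of_hasPullback f g)
    simp only [m, pullback.map, pullback.lift_snd, Category.comp_id]
    exact IsPullback.of_hasPullback (U.ι ≫ f) g
  obtain ⟨w, -, rfl⟩ := Scheme.exists_preimage_of_isPullback hsq ⟨η, hηU⟩ x' hx'.symm
  have : IsOpenImmersion m := MorphismProperty.of_isPullback (P := @IsOpenImmersion) hsq inferInstance
  have := TrivSec.geometricallyReduced_of_smooth (U.ι ≫ f)
  have : AlgebraicGeometry.IsReduced (pullback (U.ι ≫ f) g) :=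
    GeometricallyReduced.geometrically_isReduced (f := U.ι ≫ f) _ _ _ (IsPullback.of_hasPullback _ g)
  exact (GeomRedAt.isReduced_stalk_iff m w).1 inferInstance

/-- Over a perfect field, smooth points are the regular points. -/
theorem mem_smoothLocus_iff_regular [PerfectField k] [LocallyOfFinitePresentation f] (x : X) :
    x ∈ f.smoothLocus ↔ IsRegularLocalRing (X.presheaf.stalk x) := by
  obtain ⟨_, ⟨V, hV, rfl⟩, hxV, -⟩ := X.isBasis_affineOpens.exists_subset_of_mem_open (Set.mem_univ x) isOpen_univ
  obtain ⟨q, rfl⟩ : x ∈ Set.range hV.fromSpec := by rw [hV.range_fromSpec]; exact hxV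
  let ψ : CommRingCat.of k ⟶ Γ(X, V) := Spec.preimage (hV.fromSpec ≫ f)
  have hψ : Spec.map ψ = hV.fromSpec ≫ f := Spec.map_preimage _
  haveI : LocallyOfFinitePresentation (Spec.map ψ) := by rw [hψ]; infer_instance
  letI := ψ.hom.toAlgebra
  have hfp : ψ.hom.FinitePresentation := HasRingHomProperty.Spec_iff.mp ‹LocallyOfFinitePresentation (Spec.map ψ)›
  haveI : Algebra.FinitePresentation k Γ(X, V) := hfp
  have h1 : hV.fromSpec q ∈ f.smoothLocus ↔ q ∈ Algebra.smoothLocus k Γ(X, V) := by
    refine Iff.trans ?_ (Groth.FibrewiseCrit.mem_smoothLocus_Spec ψ q)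
    rw [← Groth.FibrewiseCrit.mem_smoothLocus_comp_left hV.fromSpec f]
    simp only [hψ]
    rfl
  haveI : Algebra.IsGeometricallyReduced k q.asIdeal.ResidueField :=
    (Algebra.isGeometricallyReduced_field_iff _ _).2 (PurelyInsepRed.isReduced_tensor_of_perfectField _)
  refine h1.trans ((CotLib.isSmoothAt_iff_regular q.asIdeal).trans ?_)
  let e : Localization.AtPrime q.asIdeal ≃+* X.presheaf.stalk (hV.fromSpec q) :=
    ((StructureSheaf.stalkIso Γ(X, V) q).toRingEquiv).trans
      (asIso (hV.fromSpec.stalkMap q)).commRingCatIsoToRingEquiv.symm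
  exact ⟨fun h => .of_ringEquiv e, fun h => .of_ringEquiv e.symm⟩

end Groth.Agent.SmoothDense
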