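import Groth.Agent.SmoothDense.Basic
import Groth.Agent.GeomRedAt.InsepScheme
import Groth.Agent.GeomIrr.Levels
import Groth.Agent.EGA41Lib.Separable

/-!
Smooth reduction after a purely inseparable extension; smooth dense loci in algebras; rational smooth points.
-/

universe u

open CategoryTheory CategoryTheory.Limits AlgebraicGeometry TopologicalSpace
open scoped TensorProduct

namespace Groth.Agent.SmoothDense

variable {k : Type u} [Field k] {X : Scheme.{u}} (f : X ⟶ Spec (CommRingCat.of k))

theorem exists_dense_open_smooth_red [LocallyOfFiniteType f] [QuasiCompact f] :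
    ∃ (U : X.Opens) (_ : Dense (U : Set X)) (k' : Type u) (_ : Field k') (_ : Algebra k k') (_ : Module.Finite k k')
      (_ : IsPurelyInseparable k k') (Z : Scheme.{u}) (_ : AlgebraicGeometry.IsReduced Z)
      (i : Z ⟶ pullback (U.ι ≫ f) (Spec.map (CommRingCat.ofHom (algebraMap k k')))),
      IsClosedImmersion i ∧ Function.Surjective i ∧
      Smooth (i ≫ pullback.snd (U.ι ≫ f) (Spec.map (CommRingCat.ofHom (algebraMap k k')))) := by
  have : IsLocallyNoetherian X := LocallyOfFiniteType.isLocallyNoetherian f
  have : CompactSpace X := QuasiCompact.compactSpace_of_compactSpace f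
  have : IsNoetherian X := { }
  obtain ⟨k', hk1, hk2, hfd, hpi, hgr⟩ := GeomRedAt.exists_geomReduced_nilradical_subscheme f
    NoetherianSpace.finite_irreducibleComponents
  let g := Spec.map (CommRingCat.ofHom (algebraMap k k'))
  let j := (pullback f g).nilradical.subschemeι
  let h := j ≫ pullback.snd f g
  have : GeometricallyReduced h := hgr
  have : IsLocallyNoetherian (Spec (CommRingCat.of k')) := inferInstance
  have : IsClosedImmersion j := inferInstance
  have : LocallyOfFiniteType h := inferInstance
  have : LocallyOfFinitePresentation h := inferInstance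
  have hj : Function.Surjective j := by
    rw [← Set.range_eq_univ, Scheme.IdealSheafData.range_subschemeι, Scheme.nilradical,
      Scheme.IdealSheafData.support_radical, Scheme.IdealSheafData.support_bot]
    rfl
  have : UniversallyInjective g := GeomRedAt.universallyInjective_SpecMap (k := k) k'
  have : Surjective g := ⟨fun y => ⟨IsLocalRing.closedPoint _, Subsingleton.elim (α := PrimeSpectrum k) _ _⟩⟩
  have : UniversallyOpen g := inferInstance
  have : UniversallyInjective (pullback.fst f g) := MorphismProperty.pullback_fst (P := @UniversallyInjective) f g ‹_›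
  have hopen : IsOpen ((fun z => pullback.fst f g (j z)) '' (h.smoothLocus : Set _)) := by
    have h1 : IsOpen (j '' (h.smoothLocus : Set _)) :=
      (j.isEmbedding.toHomeomorphOfSurjective hj).isOpenMap _
        h.smoothLocus.2
    rw [← Set.image_image]
    exact (pullback.fst f g).isOpenMap _ h1
  let U : X.Opens := ⟨_, hopen⟩
  have hsurj : Function.Surjective fun z => pullback.fst f g (j z) :=
    (pullback.fst f g).surjective.comp hj
  refine ⟨U, hsurj.denseRange.dense_image ((pullback.fst f g).continuous.comp j.continuous)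
    (dense_smoothLocus_of_geometricallyReduced h), k', hk1, hk2, hfd, hpi, ?_⟩
  let m : pullback (U.ι ≫ f) g ⟶ pullback f g := pullback.map _ _ _ _ U.ι (𝟙 _) (𝟙 _) (by simp) (by simp)
  have hsq : IsPullback (pullback.fst (U.ι ≫ f) g) m U.ι (pullback.fst f g) := by
    refine IsPullback.of_bot ?_ (pullback.lift_fst _ _ _).symm (IsPullback.of_hasPullback f g)
    simp only [m, pullback.map, pullback.lift_snd, Category.comp_id]
    exact IsPullback.of_hasPullback (U.ι ≫ f) g
  have : IsOpenImmersion m := MorphismProperty.of_isPullback (P := @IsOpenImmersion) hsq inferInstance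
  have : AlgebraicGeometry.IsReduced (pullback f g).nilradical.subscheme := GeomRedAt.isReduced_nilradical_subscheme _
  refine ⟨pullback j m, isReduced_of_isOpenImmersion (pullback.fst j m), pullback.snd j m, inferInstance, ?_, ?_⟩
  · intro y
    obtain ⟨z, hz⟩ := hj (m y)
    obtain ⟨w, -, hw⟩ := Scheme.Pullback.exists_preimage_pullback z y hz
    exact ⟨w, hw⟩
  · have hm : m ≫ pullback.snd f g = pullback.snd (U.ι ≫ f) g := (pullback.lift_snd _ _ _).trans (Category.comp_id _)
    rw [← hm, ← pullback.condition_assoc, ← Scheme.Hom.smoothLocus_eq_top_iff,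
      ← Scheme.Hom.preimage_smoothLocus_eq, eq_top_iff]
    intro w _
    have hw : pullback.fst f g (j (pullback.fst j m w)) ∈ U := by
      rw [← Scheme.Hom.comp_apply j, ← Scheme.Hom.comp_apply, pullback.condition_assoc, ← hsq.w,
        Scheme.Hom.comp_apply, Scheme.Hom.comp_apply]
      exact Subtype.prop _
    obtain ⟨z, hz, hzw⟩ := hw
    show pullback.fst j m w ∈ h.smoothLocus
    rw [← j.isEmbedding.injective ((pullback.fst f g).injective hzw)]
    exact hz

theorem isField_atPrime_of_minimal {A : Type u} [CommRing A] {p : Ideal A} [p.IsPrime] (hp : p ∈ minimalPrimes A)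
    [_root_.IsReduced (Localization.AtPrime p)] : IsField (Localization.AtPrime p) := by
  have : Ring.KrullDimLE 0 (Localization.AtPrime p) := by
    refine Ring.KrullDimLE.mk₀ fun q hq => ?_
    have hle : q.comap (algebraMap A (Localization.AtPrime p)) ≤ p := by
      exact (Ideal.comap_mono (IsLocalRing.le_maximalIdeal hq.ne_top)).trans
        (IsLocalization.AtPrime.comap_maximalIdeal (Localization.AtPrime p) p).le
    have heq : q.comap (algebraMap A (Localization.AtPrime p)) = p :=
      le_antisymm hle (hp.2 ⟨Ideal.IsPrime.comap _, bot_le⟩ hle)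
    have : q = IsLocalRing.maximalIdeal (Localization.AtPrime p) := by
      rw [← IsLocalization.map_comap p.primeCompl (Localization.AtPrime p) q,
        show q.under A = p from heq,
        Localization.AtPrime.map_eq_maximalIdeal]
    exact this ▸ IsLocalRing.maximalIdeal.isMaximal _
  exact Ring.KrullDimLE.isField_of_isReduced

theorem isSmoothAt_iff_geometricallyReduced {A : Type u} [CommRing A] [Algebra k A] [Algebra.FiniteType k A]
    {p : Ideal A} [p.IsPrime] (hp : p ∈ minimalPrimes A) :
    Algebra.IsSmoothAt k p ↔ Algebra.IsGeometricallyReduced k (Localization.AtPrime p) := by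
  have key : ∀ _ : _root_.IsReduced (Localization.AtPrime p),
      Algebra.IsSmoothAt k p ↔ Algebra.IsGeometricallyReduced k (Localization.AtPrime p) := fun h => by
    letI := (isField_atPrime_of_minimal hp).toField
    exact EGA41Lib.formallySmooth_iff_isGeometricallyReduced
  refine ⟨fun h => ?_, fun h => (key (Algebra.isReduced_of_isGeometricallyReduced k)).2 h⟩
  suffices hred : _root_.IsReduced (Localization.AtPrime p) from (key hred).1 h
  have : Algebra.FinitePresentation k A := Algebra.FinitePresentation.of_finiteType.1 ‹_›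
  obtain ⟨_, ⟨_, ⟨r, rfl⟩, rfl⟩, hr, hsub⟩ := PrimeSpectrum.isBasis_basic_opens.exists_subset_of_mem_open
    (show (⟨p, inferInstance⟩ : PrimeSpectrum A) ∈ Algebra.smoothLocus k A from h) Algebra.isOpen_smoothLocus
  have : Algebra.Smooth k (Localization.Away r) := Algebra.basicOpen_subset_smoothLocus_iff_smooth.1 hsub
  have := UnitProd.isReduced_of_smooth k (Localization.Away r)
  refine ⟨fun a ⟨n, hn⟩ => ?_⟩
  obtain ⟨b, s, rfl⟩ := IsLocalization.exists_mk'_eq p.primeCompl a
  rw [IsLocalization.mk'_eq_zero_iff]
  rw [← IsLocalization.mk'_pow, IsLocalization.mk'_eq_zero_iff] at hn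
  obtain ⟨t, ht⟩ := hn
  have h0 : algebraMap A (Localization.Away r) (↑t * b) = 0 := by
    refine IsReduced.eq_zero _ ⟨n + 1, ?_⟩
    rw [← map_pow, show (↑t * b) ^ (n + 1) = (↑t ^ n * b) * (↑t * b ^ n) by ring, ht, mul_zero, map_zero]
  obtain ⟨⟨_, m, rfl⟩, hm⟩ := (IsLocalization.map_eq_zero_iff (Submonoid.powers r) _ _).1 h0
  exact ⟨⟨r ^ m, Submonoid.pow_mem _ (show r ∈ p.primeCompl from hr) m⟩ * t, by rw [Submonoid.coe_mul, mul_assoc]; exact hm⟩

theorem exists_dense_smooth_iff (k A : Type u) [Field k] [CommRing A] [Algebra k A] [Algebra.FiniteType k A] :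
    (∃ U : Opens (PrimeSpectrum A), Dense (U : Set (PrimeSpectrum A)) ∧ ∀ p ∈ U, Algebra.IsSmoothAt k p.asIdeal) ↔
      ∀ (p : Ideal A) [p.IsPrime], p ∈ minimalPrimes A →
        Algebra.IsGeometricallyReduced k (Localization.AtPrime p) := by
  have : Algebra.FinitePresentation k A := Algebra.FinitePresentation.of_finiteType.1 ‹_›
  have : IsNoetherianRing A := Algebra.FiniteType.isNoetherianRing k A
  constructor
  · rintro ⟨U, hd, hU⟩ p _ hp
    refine (isSmoothAt_iff_geometricallyReduced hp).1 (hU ⟨p, inferInstance⟩ ?_)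
    refine mem_of_dense (X := Spec (CommRingCat.of A)) U.2 hd fun η' hη' => ?_
    exact (PrimeSpectrum.le_iff_specializes _ _).1 (hp.2 ⟨η'.isPrime, bot_le⟩ ((PrimeSpectrum.le_iff_specializes _ _).2 hη'))
  · intro h
    refine ⟨⟨_, Algebra.isOpen_smoothLocus (R := k) (A := A)⟩, ?_, fun p hp => hp⟩
    refine (dense_iff_closure_eq).2 (Set.eq_univ_of_forall fun q => ?_)
    obtain ⟨p, hp, hpq⟩ := Ideal.exists_minimalPrimes_le (I := ⊥) (J := q.asIdeal) bot_le
    have := hp.1.1
    refine (((PrimeSpectrum.le_iff_specializes ⟨p, hp.1.1⟩ q).1 hpq).mem_closed isClosed_closure (subset_closure ?_))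
    exact (isSmoothAt_iff_geometricallyReduced hp).2 (h p hp)

end Groth.Agent.SmoothDense
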