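import Groth.Agent.SmoothDense.Basic
import Groth.Agent.GeomIrr.Components
import Groth.Agent.GeomIrr.Count
import Groth.Agent.DepthLib.RegularLocal

/-!
A variety with a smooth rational point is geometrically integral.
-/

universe u

open CategoryTheory CategoryTheory.Limits AlgebraicGeometry TopologicalSpace

namespace Groth.Agent.SmoothDense

/-- At a point with a domain as local ring only one maximal point passes. -/
theorem maximal_unique_of_isDomain {Z : Scheme.{u}} {z : Z} [IsDomain (Z.presheaf.stalk z)] {a b : Z}
    (ha : ∀ y, y ⤳ a → a ⤳ y) (hb : ∀ y, y ⤳ b → b ⤳ y) (haz : a ⤳ z) (hbz : b ⤳ z) : a = b := by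
  have key : ∀ c : Z, (∀ y, y ⤳ c → c ⤳ y) → c ⤳ z → c = Z.fromSpecStalk z ⟨⊥, Ideal.isPrime_bot⟩ := by
    intro c hc hcz
    obtain ⟨p, rfl⟩ : c ∈ Set.range (Z.fromSpecStalk z) := by rw [Scheme.range_fromSpecStalk]; exact hcz
    have h : Z.fromSpecStalk z ⟨⊥, Ideal.isPrime_bot⟩ ⤳ Z.fromSpecStalk z p :=
      ((PrimeSpectrum.le_iff_specializes _ _).1 bot_le).map (Z.fromSpecStalk z).continuous
    exact ((hc _ h).antisymm h).eq
  rw [key a ha haz, key b hb hbz]

variable {k : Type u} [Field k] {X : Scheme.{u}} (f : X ⟶ Spec (CommRingCat.of k))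

theorem irreducible_baseChange_of_section [IrreducibleSpace X] [LocallyOfFinitePresentation f]
    (u : Spec (CommRingCat.of k) ⟶ X) (hu : u ≫ f = 𝟙 _) (hsm : u (IsLocalRing.closedPoint k) ∈ f.smoothLocus)
    (k' : Type u) [Field k'] [Algebra k k'] [FiniteDimensional k k'] :
    IrreducibleSpace (pullback f (FieldExtConn.ext k k') : Scheme.{u}) := by
  let g := FieldExtConn.ext k k'
  have hflat : Flat g := GeomRedAt.flat_SpecMap_field _
  have hint : IsIntegralHom g := by
    rw [IsIntegralHom.SpecMap_iff]
    exact algebraMap_isIntegral_iff.2 Algebra.IsAlgebraic.isIntegral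
  have : IsIntegralHom (pullback.fst f g) := MorphismProperty.pullback_fst (P := @IsIntegralHom) f g hint
  let u' : Spec (CommRingCat.of k') ⟶ pullback f g :=
    pullback.lift (g ≫ u) (𝟙 _) (by rw [Category.assoc, hu, Category.comp_id, Category.id_comp])
  let p : Spec (CommRingCat.of k') := IsLocalRing.closedPoint k'
  have hu' : pullback.fst f g (u' p) = u (IsLocalRing.closedPoint k) := by
    rw [← Scheme.Hom.comp_apply, pullback.lift_fst, Scheme.Hom.comp_apply]
    exact congrArg u (Subsingleton.elim (α := PrimeSpectrum k) _ _)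
  have hs : u' p ∈ (pullback.snd f g).smoothLocus := by
    rw [S2155.result f g _ _ (IsPullback.of_hasPullback f g) (.inr hflat)]
    show pullback.fst f g (u' p) ∈ f.smoothLocus
    rw [hu']; exact hsm
  have := (Groth.FibrewiseCrit.mem_smoothLocus_iff_regular_of_section (pullback.snd f g) u'
    (pullback.lift_snd _ _ _) p).1 hs
  have := DepthLib.isDomain_of_isRegularLocalRing ((pullback f g).presheaf.stalk (u' p))
  have hfib : ∀ z, pullback.fst f g z = u (IsLocalRing.closedPoint k) → z = u' p := by
    intro z hz
    have hsq : IsPullback g u' u (pullback.fst f g) := by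
      refine IsPullback.of_right ?_ (pullback.lift_fst _ _ _) (IsPullback.of_hasPullback f g).flip |>.flip
      simpa only [u', pullback.lift_snd, hu] using IsPullback.of_id_fst (f := g)
    obtain ⟨w, -, rfl⟩ := Scheme.exists_preimage_of_isPullback hsq (IsLocalRing.closedPoint k) z hz.symm
    exact congrArg u' (Subsingleton.elim (α := PrimeSpectrum k') _ _)
  have hall : ∀ η : genericPoints ↥(pullback f g), η.1 ⤳ u' p := fun η => by
    have h1 : pullback.fst f g η.1 ∈ genericPoints ↥X := GeomIrr.fst_mem_genericPoints f η.2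
    rw [genericPoints_eq_singleton, Set.mem_singleton_iff] at h1
    have hx : u (IsLocalRing.closedPoint k) ∈ pullback.fst f g '' closure {η.1} :=
      (genericPoint_specializes _).mem_closed ((pullback.fst f g).isClosedMap _ isClosed_closure)
        ⟨η.1, subset_closure rfl, h1⟩
    obtain ⟨w, hw, hwx⟩ := hx
    exact hfib w hwx ▸ specializes_iff_mem_closure.2 hw
  let η₀ := genericPoints.ofComponent
    (⟨irreducibleComponent (u' p), irreducibleComponent_mem_irreducibleComponents _⟩ :
      irreducibleComponents ↥(pullback f g))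
  have hgen : IsGenericPoint η₀.1 Set.univ := by
    refine Set.eq_univ_of_forall fun w => ?_
    let η := genericPoints.ofComponent
      (⟨irreducibleComponent w, irreducibleComponent_mem_irreducibleComponents w⟩ :
        irreducibleComponents ↥(pullback f g))
    have h : η₀.1 = η.1 := maximal_unique_of_isDomain (GeomIrr.mem_genericPoints_iff.1 η₀.2)
      (GeomIrr.mem_genericPoints_iff.1 η.2) (hall η₀) (hall η)
    exact (h ▸ (genericPoints.isGenericPoint_ofComponent _).specializes mem_irreducibleComponent :
      η₀.1 ⤳ w).mem_closure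
  exact @IrreducibleSpace.mk _ _ ⟨hgen.isIrreducible.2⟩ ⟨u' p⟩

theorem geometricallyIntegral_of_section [AlgebraicGeometry.IsIntegral X] [LocallyOfFiniteType f]
    (u : Spec (CommRingCat.of k) ⟶ X) (hu : u ≫ f = 𝟙 _) (hsm : u (IsLocalRing.closedPoint k) ∈ f.smoothLocus) :
    GeometricallyIntegral f := by
  have : GeometricallyIrreducible f :=
    GeomIrr.geometricallyIrreducible_of_finite_separable f fun k' _ _ _ _ =>
      irreducible_baseChange_of_section f u hu hsm k'
  have : IsLocallyNoetherian X := LocallyOfFiniteType.isLocallyNoetherian f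
  have : Smooth (f.smoothLocus.ι ≫ f) := smooth_opens_ι_comp f le_rfl
  have : GeometricallyReduced f := geometricallyReduced_of_dense_smooth f
    (f.smoothLocus.2.dense ⟨_, hsm⟩)
  exact GeometricallyIntegral.of_geometricallyReduced_of_geometricallyIrreducible f

end Groth.Agent.SmoothDense
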